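import Mathlib
import Cfsg.Agent.S2119

/-!
# Sidki pairs, the row `J₂`: facts about `A₅` and `S₅` (helper96)
-/

set_option autoImplicit false

namespace Cfsg.Agent.H96.SK.A5

open Equiv

theorem exists_inv : ∀ z : alternatingGroup (Fin 5), z * z = 1 → z ≠ 1 →
    ∃ w : alternatingGroup (Fin 5), w ^ 5 = 1 ∧ w ≠ 1 ∧ z * w * z⁻¹ = w⁻¹ := by
  decide +kernel

theorem exists_c : ∀ a b : alternatingGroup (Fin 5), a * a = 1 → a ≠ 1 → b * b = 1 → b ≠ 1 → a ≠ b → a * b = b * a →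
    ∃ c : alternatingGroup (Fin 5), c ^ 3 = 1 ∧ c ≠ 1 ∧ c * a * c⁻¹ = b := by
  decide +kernel

theorem no_norm : ∀ w : alternatingGroup (Fin 5), w ^ 5 = 1 → w ≠ 1 → ∀ y : alternatingGroup (Fin 5), y * y = 1 →
    y * (w * y * w⁻¹) * (y * (w * y * w⁻¹)) = 1 →
    y * (w ^ 2 * y * (w ^ 2)⁻¹) * (y * (w ^ 2 * y * (w ^ 2)⁻¹)) = 1 → y = 1 := by
  decide +kernel

theorem ord_cases : ∀ y : alternatingGroup (Fin 5), y ^ 2 = 1 ∨ y ^ 3 = 1 ∨ y ^ 5 = 1 := by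
  decide +kernel

/-- a permutation centralising a 5-cycle is even -/
theorem even_of_comm : ∀ π : Perm (Fin 5), π ^ 5 = 1 → π ≠ 1 → ∀ σ : Perm (Fin 5), σ * π = π * σ →
    Perm.sign σ = 1 := by
  decide +kernel

/-- a permutation of order dividing 3 centralising a 5-cycle is trivial -/
theorem eq_one_of_comm5 : ∀ π : Perm (Fin 5), π ^ 5 = 1 → π ≠ 1 → ∀ σ : Perm (Fin 5), σ * π = π * σ →
    σ ^ 3 = 1 → σ = 1 := by
  decide +kernel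

theorem comm4_0 : ∀ a : alternatingGroup (Fin 5), (a : Perm (Fin 5)) 0 = 0 → a * a = 1 → a ≠ 1 →
    ∀ c : alternatingGroup (Fin 5), a * (c * a * c⁻¹) = c * a * c⁻¹ * a → c * a * c⁻¹ ≠ a →
    ∀ σ : Perm (Fin 5), σ * a = a * σ → σ * c = c * σ → σ = 1 := by
  decide +kernel

theorem comm4_1 : ∀ a : alternatingGroup (Fin 5), (a : Perm (Fin 5)) 0 = 1 → a * a = 1 → a ≠ 1 →
    ∀ c : alternatingGroup (Fin 5), a * (c * a * c⁻¹) = c * a * c⁻¹ * a → c * a * c⁻¹ ≠ a →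
    ∀ σ : Perm (Fin 5), σ * a = a * σ → σ * c = c * σ → σ = 1 := by
  decide +kernel

theorem comm4_2 : ∀ a : alternatingGroup (Fin 5), (a : Perm (Fin 5)) 0 = 2 → a * a = 1 → a ≠ 1 →
    ∀ c : alternatingGroup (Fin 5), a * (c * a * c⁻¹) = c * a * c⁻¹ * a → c * a * c⁻¹ ≠ a →
    ∀ σ : Perm (Fin 5), σ * a = a * σ → σ * c = c * σ → σ = 1 := by
  decide +kernel

theorem comm4_3 : ∀ a : alternatingGroup (Fin 5), (a : Perm (Fin 5)) 0 = 3 → a * a = 1 → a ≠ 1 →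
    ∀ c : alternatingGroup (Fin 5), a * (c * a * c⁻¹) = c * a * c⁻¹ * a → c * a * c⁻¹ ≠ a →
    ∀ σ : Perm (Fin 5), σ * a = a * σ → σ * c = c * σ → σ = 1 := by
  decide +kernel

theorem comm4_4 : ∀ a : alternatingGroup (Fin 5), (a : Perm (Fin 5)) 0 = 4 → a * a = 1 → a ≠ 1 →
    ∀ c : alternatingGroup (Fin 5), a * (c * a * c⁻¹) = c * a * c⁻¹ * a → c * a * c⁻¹ ≠ a →
    ∀ σ : Perm (Fin 5), σ * a = a * σ → σ * c = c * σ → σ = 1 := by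
  decide +kernel

/-- a permutation centralising an `A₄` is trivial -/
theorem eq_one_of_comm4 : ∀ a c : alternatingGroup (Fin 5), a * a = 1 → a ≠ 1 →
    a * (c * a * c⁻¹) = c * a * c⁻¹ * a → c * a * c⁻¹ ≠ a →
    ∀ σ : Perm (Fin 5), σ * a = a * σ → σ * c = c * σ → σ = 1 := by
  intro a c h1 h2 h3 h4 σ h5 h6
  have h : ∀ k : Fin 5, k = 0 ∨ k = 1 ∨ k = 2 ∨ k = 3 ∨ k = 4 := by decide
  rcases h ((a : Perm (Fin 5)) 0) with h | h | h | h | h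
  · exact comm4_0 a h h1 h2 c h3 h4 σ h5 h6
  · exact comm4_1 a h h1 h2 c h3 h4 σ h5 h6
  · exact comm4_2 a h h1 h2 c h3 h4 σ h5 h6
  · exact comm4_3 a h h1 h2 c h3 h4 σ h5 h6
  · exact comm4_4 a h h1 h2 c h3 h4 σ h5 h6

end Cfsg.Agent.H96.SK.A5
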